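import Groth.Agent.L10.CechCone
import Groth.Agent.L18.Frame
import Groth.Prelude.Def_CohB1
import Mathlib.Algebra.Homology.ShortComplex.Ab

/-!
# Čech cohomology in degree one for a cover by two opens, elementwise
-/

set_option autoImplicit false
set_option linter.style.haveILetI false
set_option backward.isDefEq.respectTransparency false
set_option backward.isDefEq.respectTransparency.types false

universe u

open CategoryTheory CategoryTheory.Limits AlgebraicGeometry TopologicalSpace Opposite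

noncomputable section

namespace Groth.L15.DefoTwo

open Groth.L18.Frame (rs rs_rs rs_self)
open Groth.L10

variable {X : Scheme.{u}} (U : ULift.{u} (Fin 2) → X.Opens) (M : X.Modules)

/-- the first index -/
abbrev i0 : ULift.{u} (Fin 2) := ⟨0⟩

/-- the second index -/
abbrev i1 : ULift.{u} (Fin 2) := ⟨1⟩

/-- the overlap -/
abbrev W : X.Opens := U i0 ⊓ U i1

theorem fin2 : ∀ a : Fin 2, a = 0 ∨ a = 1 := by decide

theorem le_W {V : X.Opens} {a b : ULift.{u} (Fin 2)} (ha : V ≤ U a) (hb : V ≤ U b) (h : a ≠ b) : V ≤ W U := by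
  rcases a with ⟨a⟩
  rcases b with ⟨b⟩
  rcases fin2 a with rfl | rfl <;> rcases fin2 b with rfl | rfl
  · exact absurd rfl h
  · exact le_inf ha hb
  · exact le_inf hb ha
  · exact absurd rfl h

theorem rs_zero {V V' : X.Opens} (h : V' ≤ V) : rs M h (0 : Γ(M, V)) = 0 := map_zero _

theorem rs_zsmul {V V' : X.Opens} (h : V' ≤ V) (n : ℤ) (s : Γ(M, V)) : rs M h (n • s) = n • rs M h s :=
  map_zsmul _ _ _

/-- the coboundaries on the overlap -/
def δ : Γ(M, U i0) × Γ(M, U i1) →+ Γ(M, W U) where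
  toFun s := rs M inf_le_right s.2 - rs M inf_le_left s.1
  map_zero' := (congrArg₂ (· - ·) (map_zero _) (map_zero _)).trans (sub_zero 0)
  map_add' s t := (congrArg₂ (· - ·) (map_add _ s.2 t.2) (map_add _ s.1 t.1)).trans (add_sub_add_comm _ _ _ _)

/-- the sign of a pair -/
def sgn (a b : ULift.{u} (Fin 2)) : ℤ := (b.down.val : ℤ) - a.down.val

/-- the cochain of a section on the overlap -/
def val (s : Γ(M, W U)) (t : Fin 2 → ULift.{u} (Fin 2)) : Γ(M, Cech.tup U t) :=
  if h : t 0 = t 1 then 0 else sgn (t 0) (t 1) • rs M (le_W U (CechCone.tup_le U t 0) (CechCone.tup_le U t 1) h) s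

theorem rs_val (s : Γ(M, W U)) (t : Fin 2 → ULift.{u} (Fin 2)) {V : X.Opens} (h : V ≤ Cech.tup U t) (hW : V ≤ W U) :
    rs M h (val U M s t) = sgn (t 0) (t 1) • rs M hW s := by
  by_cases e : t 0 = t 1
  · rw [val, dif_pos e, rs_zero, e, show sgn (t 1) (t 1) = 0 from sub_self _, zero_smul]
  · rw [val, dif_neg e, rs_zsmul]
    congr 1
    exact rs_rs M _ _ _

theorem rs_val_diag (s : Γ(M, W U)) (t : Fin 2 → ULift.{u} (Fin 2)) (e : t 0 = t 1) {V : X.Opens}
    (h : V ≤ Cech.tup U t) : rs M h (val U M s t) = 0 := by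
  rw [val, dif_pos e, rs_zero]

/-- the cochain -/
def cochain : Γ(M, W U) →+ (CechCone.K M.presheaf U).X 1 where
  toFun s := Cech.mk (π := 𝟭 (Opens X.toTopCat)) fun t => val U M s t
  map_zero' := Cech.co_ext fun t => (Cech.co_mk _ t).trans (by
    rw [map_zero]
    show val U M 0 t = 0
    rw [val]
    split_ifs
    · rfl
    · rw [show rs M _ (0 : Γ(M, W U)) = 0 from map_zero _, smul_zero])
  map_add' s s' := Cech.co_ext fun t => (Cech.co_mk _ t).trans (by
    rw [map_add]
    erw [Cech.co_mk, Cech.co_mk]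
    show val U M (s + s') t = val U M s t + val U M s' t
    simp only [val]
    split_ifs
    · rw [add_zero]
    · rw [← smul_add]
      exact congrArg (_ • ·) (map_add _ _ _))

theorem c_cochain (s : Γ(M, W U)) (t : Fin 2 → ULift.{u} (Fin 2)) :
    CechCone.c M.presheaf U t (cochain U M s) = val U M s t := Cech.co_mk _ t

theorem c_d_one (x : (CechCone.K M.presheaf U).X 1) (a : Fin 3 → ULift.{u} (Fin 2)) {V : X.Opens}
    (hV : V ≤ Cech.tup U a) :
    rs M hV (CechCone.c M.presheaf U a ((CechCone.K M.presheaf U).d 1 2 x)) =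
      rs M (hV.trans (Cech.face U 0 a).le) (CechCone.c M.presheaf U (a ∘ (0 : Fin 3).succAbove) x) -
      rs M (hV.trans (Cech.face U 1 a).le) (CechCone.c M.presheaf U (a ∘ (1 : Fin 3).succAbove) x) +
      rs M (hV.trans (Cech.face U 2 a).le) (CechCone.c M.presheaf U (a ∘ (2 : Fin 3).succAbove) x) := by
  rw [CechCone.c_d, Fin.sum_univ_three]
  refine (map_add _ _ _).trans (Eq.trans (congrArg₂ (· + ·) ((map_add _ _ _).trans
    (congrArg₂ (· + ·) (map_zsmul _ _ _) (map_zsmul _ _ _))) (map_zsmul _ _ _)) ?_)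
  simp only [Fin.val_zero, Fin.val_one, Fin.val_two, pow_zero, pow_one, neg_one_sq, one_smul, neg_one_zsmul,
    ← sub_eq_add_neg]
  congr 1
  · congr 1 <;> exact rs_rs M _ _ _
  · exact rs_rs M _ _ _

theorem d_cochain (s : Γ(M, W U)) : (CechCone.K M.presheaf U).d 1 2 (cochain U M s) = 0 := by
  refine Cech.co_ext fun a => ?_
  change CechCone.c M.presheaf U a _ = CechCone.c M.presheaf U a 0
  rw [map_zero, ← rs_self M le_rfl (CechCone.c M.presheaf U a ((CechCone.K M.presheaf U).d 1 2 (cochain U M s))),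
    c_d_one, c_cochain, c_cochain, c_cochain]
  by_cases h : a 0 = a 1 ∧ a 1 = a 2
  · rw [rs_val_diag U M s _ h.2, rs_val_diag U M s _ (h.1.trans h.2), rs_val_diag U M s _ h.1, sub_zero, add_zero]
  · have hW : Cech.tup U a ≤ W U := by
      by_cases h01 : a 0 = a 1
      · exact le_W U (CechCone.tup_le U a 1) (CechCone.tup_le U a 2) fun e => h ⟨h01, e⟩
      · exact le_W U (CechCone.tup_le U a 0) (CechCone.tup_le U a 1) h01
    rw [rs_val U M s _ _ hW, rs_val U M s _ _ hW, rs_val U M s _ _ hW, ← sub_smul, ← add_smul]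
    convert zero_smul ℤ (rs M hW s)
    show sgn (a 1) (a 2) - sgn (a 0) (a 2) + sgn (a 0) (a 1) = 0
    simp only [sgn]
    ring

/-- the value on the overlap -/
def ev01 (x : (CechCone.K M.presheaf U).X 1) : Γ(M, W U) :=
  rs M (CechCone.le_tup U (a := ![i0, i1]) (Fin.forall_fin_two.2 ⟨inf_le_left, inf_le_right⟩))
    (CechCone.c M.presheaf U ![i0, i1] x)

theorem ev01_cochain (s : Γ(M, W U)) : ev01 U M (cochain U M s) = s := by
  rw [ev01, c_cochain, rs_val U M s _ _ le_rfl, rs_self]
  show ((1 : ℤ) - 0) • s = s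
  rw [sub_zero, one_smul]

theorem diag_eq_zero (x : (CechCone.K M.presheaf U).X 1) (hx : (CechCone.K M.presheaf U).d 1 2 x = 0)
    (t : Fin 2 → ULift.{u} (Fin 2)) (e : t 0 = t 1) : CechCone.c M.presheaf U t x = 0 := by
  let a : Fin 3 → ULift.{u} (Fin 2) := fun _ => t 0
  have hle : Cech.tup U t ≤ Cech.tup U a := CechCone.le_tup U fun _ => CechCone.tup_le U t 0
  have h := c_d_one U M x a hle
  rw [hx, map_zero, rs_zero] at h
  have hj : ∀ j : Fin 3, a ∘ j.succAbove = t := fun j => funext fun k => by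
    fin_cases k
    · rfl
    · exact e
  have hc : ∀ j : Fin 3, rs M (hle.trans (Cech.face U j a).le) (CechCone.c M.presheaf U (a ∘ j.succAbove) x) =
      CechCone.c M.presheaf U t x := fun j =>
    (CechCone.c_congr M.presheaf U (hj j) (hle.trans (Cech.face U j a).le) le_rfl x).trans (rs_self M _ _)
  rw [hc, hc, hc, sub_self, zero_add] at h
  exact h.symm

theorem eq_cochain (x : (CechCone.K M.presheaf U).X 1) (hx : (CechCone.K M.presheaf U).d 1 2 x = 0) :
    cochain U M (ev01 U M x) = x := by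
  refine Cech.co_ext fun t => ?_
  change CechCone.c M.presheaf U t _ = CechCone.c M.presheaf U t x
  rw [c_cochain]
  have ht : t = ![t 0, t 1] := funext fun k => by fin_cases k <;> rfl
  rcases eq_or_ne (t 0) (t 1) with e | e
  · rw [val, dif_pos e, diag_eq_zero U M x hx t e]
  have hW : Cech.tup U t ≤ W U := le_W U (CechCone.tup_le U t 0) (CechCone.tup_le U t 1) e
  rw [val, dif_neg e, ev01, rs_rs]
  rcases h0 : t 0 with ⟨a⟩
  rcases h1 : t 1 with ⟨b⟩
  rw [h0, h1] at e ht
  rcases fin2 a with rfl | rfl <;> rcases fin2 b with rfl | rfl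
  · exact absurd rfl e
  · rw [show sgn (⟨(0 : Fin 2)⟩ : ULift.{u} (Fin 2)) ⟨1⟩ = 1 from rfl, one_smul]
    exact (CechCone.c_congr M.presheaf U ht.symm _ le_rfl x).trans (rs_self M _ _)
  · rw [show sgn (⟨(1 : Fin 2)⟩ : ULift.{u} (Fin 2)) ⟨0⟩ = -1 from rfl, neg_one_zsmul]
    let a : Fin 3 → ULift.{u} (Fin 2) := ![i1, i0, i1]
    have hle : Cech.tup U t ≤ Cech.tup U a := CechCone.le_tup U fun k => by
      have g0 := CechCone.tup_le U t 0
      have g1 := CechCone.tup_le U t 1
      rw [h0] at g0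
      rw [h1] at g1
      fin_cases k <;> assumption
    have h := c_d_one U M x a hle
    rw [hx, map_zero, rs_zero] at h
    have e0 : a ∘ (0 : Fin 3).succAbove = ![i0, i1] := funext fun k => by fin_cases k <;> rfl
    have e1 : a ∘ (1 : Fin 3).succAbove = ![i1, i1] := funext fun k => by fin_cases k <;> rfl
    have e2 : a ∘ (2 : Fin 3).succAbove = t := by
      rw [ht]
      funext k
      fin_cases k <;> rfl
    have hA : rs M (hle.trans (Cech.face U 1 a).le) (CechCone.c M.presheaf U (a ∘ (1 : Fin 3).succAbove) x) = 0 := by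
      rw [diag_eq_zero U M x hx (a ∘ (1 : Fin 3).succAbove) (by rw [e1]; rfl)]
      exact map_zero _
    have hB : rs M (hle.trans (Cech.face U 2 a).le) (CechCone.c M.presheaf U (a ∘ (2 : Fin 3).succAbove) x) =
        CechCone.c M.presheaf U t x := (CechCone.c_congr M.presheaf U e2 _ le_rfl x).trans (rs_self M _ _)
    rw [hA, hB, sub_zero] at h
    rw [← eq_neg_of_add_eq_zero_right h.symm |>.trans (congrArg Neg.neg (CechCone.c_congr M.presheaf U e0 _ _ x))]
  · exact absurd rfl e

theorem cochain_mem_range_iff (s : Γ(M, W U)) :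
    (∃ y, (CechCone.K M.presheaf U).d 0 1 y = cochain U M s) ↔ s ∈ (δ U M).range := by
  have hd : ∀ (y : (CechCone.K M.presheaf U).X 0) (t : Fin 2 → ULift.{u} (Fin 2)) (V : X.Opens) (hV : V ≤ Cech.tup U t)
      (g0 : V ≤ Cech.tup U ![t 0]) (g1 : V ≤ Cech.tup U ![t 1]),
      rs M hV (CechCone.c M.presheaf U t ((CechCone.K M.presheaf U).d 0 1 y)) =
      rs M g1 (CechCone.c M.presheaf U ![t 1] y) - rs M g0 (CechCone.c M.presheaf U ![t 0] y) := fun y t V hV g0 g1 => by
    rw [CechCone.c_d, Fin.sum_univ_two]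
    refine (map_add _ _ _).trans (Eq.trans (congrArg₂ (· + ·) (map_zsmul _ _ _) (map_zsmul _ _ _)) ?_)
    simp only [Fin.val_zero, Fin.val_one, pow_zero, pow_one, one_smul, neg_one_zsmul, ← sub_eq_add_neg]
    congr 1
    · exact (rs_rs M _ _ _).trans (CechCone.c_congr M.presheaf U (funext fun k => by fin_cases k; rfl) _ _ y)
    · exact (rs_rs M _ _ _).trans (CechCone.c_congr M.presheaf U (funext fun k => by fin_cases k; rfl) _ _ y)
  constructor
  · rintro ⟨y, hy⟩
    have g0 : U i0 ≤ Cech.tup U ![i0] := CechCone.le_tup U fun k => by fin_cases k; exact le_rfl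
    have g1 : U i1 ≤ Cech.tup U ![i1] := CechCone.le_tup U fun k => by fin_cases k; exact le_rfl
    refine ⟨(rs M g0 (CechCone.c M.presheaf U ![i0] y), rs M g1 (CechCone.c M.presheaf U ![i1] y)), ?_⟩
    show rs M inf_le_right (rs M g1 _) - rs M inf_le_left (rs M g0 _) = s
    rw [rs_rs, rs_rs]
    refine (hd y ![i0, i1] (W U) (CechCone.le_tup U (Fin.forall_fin_two.2 ⟨inf_le_left, inf_le_right⟩))
      (inf_le_left.trans g0) (inf_le_right.trans g1)).symm.trans ?_
    rw [hy]
    exact ev01_cochain U M s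
  · rintro ⟨⟨s0, s1⟩, rfl⟩
    let v : ∀ a : ULift.{u} (Fin 2), Γ(M, U a) := fun a =>
      if h : a = i0 then rs M (by rw [h]) s0 else rs M (le_of_eq (congrArg U (by
        rcases a with ⟨a⟩
        fin_cases a
        · exact absurd rfl h
        · rfl))) s1
    refine ⟨Cech.mk (π := 𝟭 (Opens X.toTopCat)) fun t => rs M (CechCone.tup_le U t 0) (v (t 0)), ?_⟩
    refine Cech.co_ext fun t => ?_
    change CechCone.c M.presheaf U t _ = CechCone.c M.presheaf U t (cochain U M (δ U M (s0, s1)))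
    have g : ∀ k : Fin 2, Cech.tup U t ≤ Cech.tup U ![t k] := fun k =>
      CechCone.le_tup U fun j => by fin_cases j; exact CechCone.tup_le U t k
    rw [← rs_self M le_rfl (CechCone.c M.presheaf U t _), hd _ t _ le_rfl (g 0) (g 1), c_cochain]
    erw [Cech.co_mk, Cech.co_mk]
    rw [rs_rs, rs_rs]
    rcases eq_or_ne (t 0) (t 1) with e | e
    · have hcv : ∀ (a b : ULift.{u} (Fin 2)) (h : a = b) (ha : Cech.tup U t ≤ U a) (hb : Cech.tup U t ≤ U b),
          rs M ha (v a) = rs M hb (v b) := by rintro a _ rfl ha hb; rfl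
      rw [val, dif_pos e, sub_eq_zero]
      exact hcv _ _ e.symm _ _
    · have hW : Cech.tup U t ≤ W U := le_W U (CechCone.tup_le U t 0) (CechCone.tup_le U t 1) e
      have hv0 : ∀ (a : ULift.{u} (Fin 2)) (ha : Cech.tup U t ≤ U a), rs M ha (v a) =
          if a = i0 then rs M (hW.trans inf_le_left) s0 else rs M (hW.trans inf_le_right) s1 := fun a ha => by
        by_cases h : a = i0
        · rw [if_pos h]
          simp only [v, dif_pos h]
          rw [rs_rs]
        · rw [if_neg h]
          simp only [v, dif_neg h]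
          rw [rs_rs]
      rw [val, dif_neg e]
      show _ = sgn (t 0) (t 1) • rs M _ (rs M inf_le_right s1 - rs M inf_le_left s0)
      rw [show rs M hW (rs M inf_le_right s1 - rs M inf_le_left s0) =
        rs M hW (rs M inf_le_right s1) - rs M hW (rs M inf_le_left s0) from map_sub _ _ _, rs_rs, rs_rs]
      refine (congrArg₂ (· - ·) (hv0 (t 1) _) (hv0 (t 0) _)).trans ?_
      rcases h0 : t 0 with ⟨a⟩
      rcases h1 : t 1 with ⟨b⟩
      rw [h0, h1] at e
      rcases fin2 a with rfl | rfl <;> rcases fin2 b with rfl | rfl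
      · exact absurd rfl e
      · simp [sgn]
      · simp [sgn, sub_eq_add_neg, add_comm]
      · exact absurd rfl e

/-- Čech `H¹` of a two-open cover is the cokernel on the overlap. -/
theorem nonempty_cechH_one_equiv : Nonempty (↑(CohB1.cechH U M 1) ≃+ (Γ(M, W U) ⧸ (δ U M).range)) := by
  let K := CechCone.K M.presheaf U
  let S := K.sc' 0 1 2
  let i : K.homology 1 ≅ S.homology := K.homologyIsoSc' 0 1 2 (by simp) (by simp)
  let j := i ≪≫ S.abHomologyIso
  let a : Γ(M, W U) →+ AddMonoidHom.ker S.g.hom ⧸ AddMonoidHom.range S.abToCycles :=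
    (QuotientAddGroup.mk' _).comp ((cochain U M).codRestrict (AddMonoidHom.ker S.g.hom) fun s => d_cochain U M s)
  have hsurj : Function.Surjective a := fun q => by
    obtain ⟨⟨x, hx⟩, rfl⟩ := QuotientAddGroup.mk_surjective q
    exact ⟨ev01 U M x, congrArg _ (Subtype.ext (eq_cochain U M x hx))⟩
  have hker : a.ker = (δ U M).range := by
    ext s
    rw [← cochain_mem_range_iff, AddMonoidHom.mem_ker]
    show QuotientAddGroup.mk' _ _ = 0 ↔ _
    rw [QuotientAddGroup.mk'_apply, QuotientAddGroup.eq_zero_iff]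
    exact ⟨fun ⟨y, hy⟩ => ⟨y, congrArg Subtype.val hy⟩, fun ⟨y, hy⟩ => ⟨y, Subtype.ext hy⟩⟩
  exact ⟨j.addCommGroupIsoToAddEquiv.trans ((QuotientAddGroup.quotientKerEquivOfSurjective a hsurj).symm.trans
    (QuotientAddGroup.quotientAddEquivOfEq hker))⟩

end Groth.L15.DefoTwo
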