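import Groth.Agent.L15.DefoTwo.Cech
import Groth.Agent.L12.DefoSh.Ext
import Groth.Agent.L15.Ref.Stalk
import Groth.Agent.L17.PushMV
import Groth.Agent.L12.FinCov.Basis
import Groth.Agent.L12.DefoSh.Trivial
import Groth.Agent.L17.AffineVanishing
import Groth.Agent.L16.CohLinear
import Groth.Agent.L18.LocFreeFP
import Groth.Prelude.Def_DefoSh2

/-!
# First-order deformations of a bundle free on two affine opens, and Čech cohomology of endomorphisms
-/

set_option autoImplicit false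
set_option linter.style.haveILetI false
set_option backward.isDefEq.respectTransparency false
set_option backward.isDefEq.respectTransparency.types false

universe w u

open CategoryTheory CategoryTheory.Limits AlgebraicGeometry TopologicalSpace Opposite

noncomputable section

namespace Groth.L15.DefoTwo

open Groth.L18.Frame (rs rs_rs rs_self rs_smul ro ro_ro)
open Groth.L16.HomSh (Sec ev ev_rs ev_smul sec_ext homMod post secEquiv ev_post secEquiv_rs globalEquiv globalEquiv_comp ext_cover exists_glue)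
open Groth.L12.FinCov (IsBasisOn lc rM rO rM_lc app_lc)

variable {X : Scheme.{u}} {n : ℕ}

theorem lc_add (M : X.Modules) {W V : X.Opens} (b : Fin n → Γ(M, W)) (h : V ≤ W) (c c' : Fin n → Γ(X, V)) :
    lc M b h (c + c') = lc M b h c + lc M b h c' := by
  simp only [lc, Pi.add_apply, add_smul, Finset.sum_add_distrib]

theorem lc_smul (M : X.Modules) {W V : X.Opens} (b : Fin n → Γ(M, W)) (h : V ≤ W) (r : Γ(X, V)) (c : Fin n → Γ(X, V)) :
    lc M b h (fun i => r * c i) = r • lc M b h c := by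
  simp only [lc, Finset.smul_sum, mul_smul]

/-- the values of a section of `Hom` at a frame -/
def evB {E : X.Modules} {O : X.Opens} (b : Fin n → Γ(E, O)) (N : X.Modules) {V : X.Opens} (hV : V ≤ O)
    (φ : Γ(homMod E N, V)) : Fin n → Γ(N, V) := fun i => ev (secEquiv V φ) le_rfl (rs E hV (b i))

theorem evB_rs {E : X.Modules} {O : X.Opens} (b : Fin n → Γ(E, O)) (N : X.Modules) {V V' : X.Opens} (hV : V ≤ O)
    (h : V' ≤ V) (φ : Γ(homMod E N, V)) (i : Fin n) :
    evB b N (h.trans hV) (rs (homMod E N) h φ) i = rs N h (evB b N hV φ i) := by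
  show ev (secEquiv V' (rs (homMod E N) h φ)) le_rfl _ = rs N h (ev _ _ _)
  rw [secEquiv_rs, ev_rs, rs_rs]

theorem evB_post {E : X.Modules} {O : X.Opens} (b : Fin n → Γ(E, O)) {N N' : X.Modules} (g : N ⟶ N')
    {V : X.Opens} (hV : V ≤ O) (φ : Γ(homMod E N, V)) (i : Fin n) :
    evB b N' hV ((post E g).app V φ) i = g.app V (evB b N hV φ i) := rfl

theorem evB_bijective {E : X.Modules} {O : X.Opens} {b : Fin n → Γ(E, O)} (hb : IsBasisOn E O b) (N : X.Modules)
    {V : X.Opens} (hV : V ≤ O) : Function.Bijective (evB b N hV) := by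
  constructor
  · intro φ ψ h
    apply (secEquiv V).injective
    refine sec_ext fun W hW x => ?_
    obtain ⟨c, rfl⟩ := (hb W (hW.trans hV)).2 x
    simp only [lc, map_sum]
    refine Finset.sum_congr rfl fun i _ => ?_
    rw [ev_smul, ev_smul]
    congr 1
    have h1 := congrArg (rs N hW) (congrFun h i)
    simp only [evB] at h1
    rwa [ev_rs, ev_rs, rs_rs] at h1
  · intro t
    choose co hco using fun (W : X.Opens) (hW : W ≤ V) (x : Γ(E, W)) => (hb W (hW.trans hV)).2 x
    have coEq : ∀ (W : X.Opens) (hW : W ≤ V) (x : Γ(E, W)) (c : Fin n → Γ(X, W)),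
        lc E b (hW.trans hV) c = x → co W hW x = c :=
      fun W hW x c hc => (hb W (hW.trans hV)).1 ((hco W hW x).trans hc.symm)
    let ψ : ∀ W : {W : X.Opens // W ≤ V}, Γ(E, W.1) →+ Γ(N, W.1) := fun W =>
      AddMonoidHom.mk' (fun x => lc N t W.2 (co W.1 W.2 x)) fun x y => by
        rw [← lc_add, coEq W.1 W.2 (x + y) (co W.1 W.2 x + co W.1 W.2 y) (by rw [lc_add, hco, hco])]
    have hψ : Groth.L16.HomSh.IsFam E N V ψ := by
      refine ⟨fun W W' h h' x => ?_, fun W h a x => ?_⟩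
      · show rM N h' (lc N t h (co W h x)) = lc N t (h'.trans h) (co W' (h'.trans h) (rM E h' x))
        rw [rM_lc, coEq W' (h'.trans h) (rM E h' x) (fun i => rO h' (co W h x i)) (by
          conv_rhs => rw [← hco W h x]
          exact (rM_lc b (h.trans hV) h' _).symm)]
      · show lc N t h (co W h (a • x)) = a • lc N t h (co W h x)
        rw [← lc_smul, coEq W h (a • x) (fun i => a * co W h x i) (by rw [lc_smul, hco])]
    refine ⟨(secEquiv V).symm ⟨ψ, hψ⟩, funext fun i => ?_⟩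
    show lc N t le_rfl (co V le_rfl (rs E hV (b i))) = t i
    classical
    rw [coEq V le_rfl (rs E hV (b i)) (fun j => if j = i then 1 else 0) ?_]
    · simp only [lc]
      rw [Finset.sum_eq_single i (fun j _ hj => by rw [if_neg hj, zero_smul]) (fun h => absurd (Finset.mem_univ i) h),
        if_pos rfl, one_smul, Groth.L12.FinCov.rM_self]
    · simp only [lc]
      rw [Finset.sum_eq_single i (fun j _ hj => by rw [if_neg hj, zero_smul]) (fun h => absurd (Finset.mem_univ i) h),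
        if_pos rfl, one_smul]

theorem post_surjective {E : X.Modules} {O : X.Opens} {b : Fin n → Γ(E, O)} (hb : IsBasisOn E O b)
    {N N' : X.Modules} (g : N ⟶ N') (hg : Function.Surjective (g.app O)) :
    Function.Surjective ((post E g).app O) := fun q => by
  choose t ht using fun i => hg (evB b N' le_rfl q i)
  obtain ⟨φ, hφ⟩ := (evB_bijective hb N le_rfl).2 t
  refine ⟨φ, (evB_bijective hb N' le_rfl).1 (funext fun i => ?_)⟩
  rw [evB_post, hφ, ht]

theorem res_surjective {E : X.Modules} {O : X.Opens} {b : Fin n → Γ(E, O)} (hb : IsBasisOn E O b)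
    (N : X.Modules) {V : X.Opens} (hV : V ≤ O) (hN : ∀ t : Γ(N, V), ∃ s : Γ(N, O), rs N hV s = t) :
    Function.Surjective (rs (homMod E N) hV) := fun φ => by
  choose t ht using fun i => hN (evB b N hV φ i)
  obtain ⟨ψ, hψ⟩ := (evB_bijective hb N le_rfl).2 t
  refine ⟨ψ, (evB_bijective hb N hV).1 (funext fun i => ?_)⟩
  rw [evB_rs b N le_rfl hV, hψ, ht]

section AbSections

variable {S : ShortComplex X.Modules} (hS : S.ShortExact)

open Groth.L17 (zFree zEquiv zEquiv_comp HU hu₀ hu₀_map)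

include hS in
theorem app_injective (V : X.Opens) : Function.Injective (S.f.app V) := fun a b h => by
  have hS' := Groth.L16.CohLinear.abS_shortExact hS
  haveI := hS'.mono_f
  apply (zEquiv (X := X.toTopCat) V (Coh.toAb S.X₁)).symm.injective
  rw [← cancel_mono (Groth.L16.CohLinear.abS S).f]
  apply (zEquiv (X := X.toTopCat) V (Coh.toAb S.X₂)).injective
  rw [zEquiv_comp, zEquiv_comp, Equiv.apply_symm_apply, Equiv.apply_symm_apply]
  exact h

include hS in
theorem exists_app_eq {V : X.Opens} (b : Γ(S.X₂, V)) (hb : S.g.app V b = 0) :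
    ∃ a : Γ(S.X₁, V), S.f.app V a = b := by
  have hS' := Groth.L16.CohLinear.abS_shortExact hS
  haveI := hS'.mono_f
  have hk : (zEquiv (X := X.toTopCat) V (Coh.toAb S.X₂)).symm b ≫ (Groth.L16.CohLinear.abS S).g = 0 := by
    apply (zEquiv (X := X.toTopCat) V (Coh.toAb S.X₃)).injective
    rw [zEquiv_comp, Equiv.apply_symm_apply]
    exact hb
  refine ⟨zEquiv (X := X.toTopCat) V (Coh.toAb S.X₁) (hS'.exact.lift _ hk), ?_⟩
  have h := zEquiv_comp (X := X.toTopCat) V (hS'.exact.lift _ hk) (Groth.L16.CohLinear.abS S).f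
  rw [hS'.exact.lift_f, Equiv.apply_symm_apply] at h
  exact h.symm

include hS in
theorem surjective_on_affine [Coh.IsQCoh S.X₁] {O : X.Opens} (hO : IsAffineOpen O) :
    Function.Surjective (S.g.app O) := fun s => by
  have hS' := Groth.L16.CohLinear.abS_shortExact hS
  obtain ⟨y, hy⟩ := Abelian.Ext.covariant_sequence_exact₃ _ hS'
    ((hu₀ (X := X.toTopCat) O (Coh.toAb S.X₃)).symm s) (zero_add 1) (Groth.L17.hu_affine_eq_zero S.X₁ hO 0 _)
  refine ⟨hu₀ (X := X.toTopCat) O (Coh.toAb S.X₂) y, ?_⟩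
  have h := hu₀_map (X := X.toTopCat) (U := O) (Groth.L16.CohLinear.abS S).g y
  rw [show Groth.L17.huMap (Groth.L16.CohLinear.abS S).g y = _ from hy, AddEquiv.apply_symm_apply] at h
  exact h.symm

end AbSections

section LES

variable {E : X.Modules} {S : ShortComplex X.Modules} (hS : S.ShortExact)

include hS in
theorem post_injective (V : X.Opens) : Function.Injective ((post E S.f).app V) := fun φ ψ h =>
  (secEquiv V).injective (sec_ext fun W hW x => app_injective hS W
    (congrArg (fun s => ev (secEquiv V s) hW x) h))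

include hS in
theorem post_exact (V : X.Opens) (φ : Γ(homMod E S.X₂, V)) (h : (post E S.g).app V φ = 0) :
    ∃ ψ : Γ(homMod E S.X₁, V), (post E S.f).app V ψ = φ := by
  choose v hv using fun (W : {W : X.Opens // W ≤ V}) (x : Γ(E, W.1)) =>
    exists_app_eq hS (ev (secEquiv V φ) W.2 x) (congrArg (fun s => ev (secEquiv V s) W.2 x) h)
  have inj : ∀ W, Function.Injective (S.f.app W) := fun W => app_injective hS W
  have hv' : ∀ (W : X.Opens) (hW : W ≤ V) (x : Γ(E, W)),
      S.f.app W (v ⟨W, hW⟩ x) = ev (secEquiv V φ) hW x := fun W hW x => hv ⟨W, hW⟩ x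
  let ψ : ∀ W : {W : X.Opens // W ≤ V}, Γ(E, W.1) →+ Γ(S.X₁, W.1) := fun W =>
    AddMonoidHom.mk' (v W) fun a b => inj W.1 (by rw [map_add, hv, hv, hv, map_add])
  have hfam : Groth.L16.HomSh.IsFam E S.X₁ V ψ := by
    refine ⟨fun W W' hW h' x => inj W' ?_, fun W hW a x => inj W ?_⟩
    · show S.f.app W' (rs S.X₁ h' (v ⟨W, hW⟩ x)) = S.f.app W' (v ⟨W', h'.trans hW⟩ (rs E h' x))
      have e : S.f.app W' (rs S.X₁ h' (v ⟨W, hW⟩ x)) = rs S.X₂ h' (S.f.app W (v ⟨W, hW⟩ x)) :=
        Groth.L12.FinCov.app_rM S.f h' _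
      rw [e, hv', hv']
      exact ev_rs _ _ _ _
    · show S.f.app W (v ⟨W, hW⟩ (a • x)) = S.f.app W (a • v ⟨W, hW⟩ x)
      rw [hv', Scheme.Modules.Hom.app_smul, hv']
      exact ev_smul _ _ _ _
  refine ⟨(secEquiv V).symm ⟨ψ, hfam⟩, (secEquiv V).injective (sec_ext fun W hW x => ?_)⟩
  exact hv ⟨W, hW⟩ x

end LES

theorem app_rs {M N : X.Modules} (φ : M ⟶ N) {U V : X.Opens} (h : V ≤ U) (s : Γ(M, U)) :
    φ.app V (rs M h s) = rs N h (φ.app U s) := Groth.L12.FinCov.app_rM φ h s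

theorem rs_sub (M : X.Modules) {U V : X.Opens} (h : V ≤ U) (s t : Γ(M, U)) :
    rs M h (s - t) = rs M h s - rs M h t := map_sub _ _ _

variable (U : ULift.{u} (Fin 2) → X.Opens) (hcov : ⨆ i, U i = ⊤)

include hcov in
theorem glue_top (N : X.Modules) (s0 : Γ(N, U i0)) (s1 : Γ(N, U i1))
    (h : rs N (inf_le_left : W U ≤ U i0) s0 = rs N inf_le_right s1) :
    ∃ y : Γ(N, ⊤), rs N le_top y = s0 ∧ rs N le_top y = s1 := by
  let s : ∀ a, Γ(N, U a) := fun ⟨a⟩ => match a with | 0 => s0 | 1 => s1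
  obtain ⟨y, hy⟩ := exists_glue N U (fun _ => le_top) hcov.ge s fun ⟨a⟩ ⟨b⟩ => by
    rcases fin2 a with rfl | rfl <;> rcases fin2 b with rfl | rfl
    · rfl
    · exact h
    · have h' := congrArg (rs N (le_inf inf_le_right inf_le_left : U i1 ⊓ U i0 ≤ W U)) h.symm
      rw [rs_rs, rs_rs] at h'
      exact h'
    · rfl
  exact ⟨y, hy i0, hy i1⟩

section Main

variable {E : X.Modules} {S : ShortComplex X.Modules} (hS : S.ShortExact)

/-- `d` is the cocycle of local lifts of `q` -/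
def Rel (q : E ⟶ S.X₃) (d : Γ(homMod E S.X₁, W U)) : Prop :=
  ∃ (l0 : Γ(homMod E S.X₂, U i0)) (l1 : Γ(homMod E S.X₂, U i1)),
    (post E S.g).app _ l0 = rs _ le_top (globalEquiv E S.X₃ q) ∧
    (post E S.g).app _ l1 = rs _ le_top (globalEquiv E S.X₃ q) ∧
    (post E S.f).app _ d = rs _ inf_le_right l1 - rs _ inf_le_left l0

theorem rel_add {q q' : E ⟶ S.X₃} {d d' : Γ(homMod E S.X₁, W U)} (h : Rel U q d) (h' : Rel U q' d') :
    Rel U (q + q') (d + d') := by
  obtain ⟨l0, l1, a, b, c⟩ := h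
  obtain ⟨m0, m1, a', b', c'⟩ := h'
  refine ⟨l0 + m0, l1 + m1, ?_, ?_, ?_⟩
  · rw [map_add, a, a', map_add (globalEquiv E S.X₃)]
    exact (map_add _ _ _).symm
  · rw [map_add, b, b', map_add (globalEquiv E S.X₃)]
    exact (map_add _ _ _).symm
  · rw [map_add, c, c']
    exact (add_sub_add_comm _ _ _ _).symm.trans (congrArg₂ (· - ·) (map_add _ _ _).symm (map_add _ _ _).symm)

theorem rel_sub {q q' : E ⟶ S.X₃} {d d' : Γ(homMod E S.X₁, W U)} (h : Rel U q d) (h' : Rel U q' d') :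
    Rel U (q - q') (d - d') := by
  obtain ⟨l0, l1, a, b, c⟩ := h
  obtain ⟨m0, m1, a', b', c'⟩ := h'
  refine ⟨l0 - m0, l1 - m1, ?_, ?_, ?_⟩
  · rw [map_sub, a, a', map_sub (globalEquiv E S.X₃)]
    exact (map_sub _ _ _).symm
  · rw [map_sub, b, b', map_sub (globalEquiv E S.X₃)]
    exact (map_sub _ _ _).symm
  · rw [map_sub, c, c', rs_sub, rs_sub]
    abel

include hS in
theorem rel_total (hg : ∀ a, Function.Surjective ((post E S.g).app (U a))) (q : E ⟶ S.X₃) :
    ∃ d, Rel U q d := by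
  obtain ⟨l0, h0⟩ := hg i0 (rs _ le_top (globalEquiv E S.X₃ q))
  obtain ⟨l1, h1⟩ := hg i1 (rs _ le_top (globalEquiv E S.X₃ q))
  obtain ⟨d, hd⟩ := post_exact hS (W U) (rs _ inf_le_right l1 - rs _ inf_le_left l0) (by
    rw [map_sub, app_rs, app_rs, h0, h1, rs_rs, rs_rs, sub_self])
  exact ⟨d, l0, l1, h0, h1, hd⟩

include hS hcov in
theorem rel_iff {q : E ⟶ S.X₃} {d : Γ(homMod E S.X₁, W U)} (h : Rel U q d) :
    d ∈ (δ U (homMod E S.X₁)).range ↔ ∃ φ : E ⟶ S.X₂, φ ≫ S.g = q := by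
  obtain ⟨l0, l1, h0, h1, hd⟩ := h
  constructor
  · rintro ⟨⟨s0, s1⟩, rfl⟩
    have hz : ∀ {V : X.Opens} (x : Γ(homMod E S.X₁, V)), (post E S.g).app V ((post E S.f).app V x) = 0 :=
      fun {V} x => (secEquiv V).injective (sec_ext fun O hO m => by
        show S.g.app O (S.f.app O (ev (secEquiv V x) hO m)) = 0
        rw [← ConcreteCategory.comp_apply, ← Scheme.Modules.Hom.comp_app, S.zero, Scheme.Modules.Hom.zero_app]
        rfl)
    change (post E S.f).app _ (rs _ inf_le_right s1 - rs _ inf_le_left s0) = _ at hd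
    rw [map_sub, app_rs, app_rs] at hd
    obtain ⟨y, hy0, hy1⟩ := glue_top U hcov (homMod E S.X₂) (l0 - (post E S.f).app _ s0) (l1 - (post E S.f).app _ s1) (by
      rw [rs_sub, rs_sub]
      rw [← neg_sub, ← sub_eq_sub_iff_sub_eq_sub.1 hd, neg_sub])
    refine ⟨(globalEquiv E S.X₂).symm y, (globalEquiv E S.X₃).injective ?_⟩
    rw [globalEquiv_comp, AddEquiv.apply_symm_apply]
    refine ext_cover _ U (fun _ => le_top) hcov.ge fun ⟨a⟩ => ?_
    rw [← app_rs]
    rcases fin2 a with rfl | rfl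
    · rw [hy0, map_sub, hz, sub_zero, h0]
    · rw [hy1, map_sub, hz, sub_zero, h1]
  · rintro ⟨φ, rfl⟩
    have key : ∀ {V : X.Opens} (l : Γ(homMod E S.X₂, V)),
        (post E S.g).app V l = rs _ le_top (globalEquiv E S.X₃ (φ ≫ S.g)) →
        ∃ s, (post E S.f).app V s = l - rs _ le_top (globalEquiv E S.X₂ φ) := fun {V} l hl =>
      post_exact hS V _ (by rw [map_sub, hl, globalEquiv_comp, app_rs, sub_self])
    obtain ⟨s0, hs0⟩ := key l0 h0
    obtain ⟨s1, hs1⟩ := key l1 h1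
    refine ⟨(s0, s1), post_injective hS (W U) ?_⟩
    show (post E S.f).app _ (rs _ inf_le_right s1 - rs _ inf_le_left s0) = _
    rw [map_sub, app_rs, app_rs, hs0, hs1, hd, rs_sub, rs_sub, rs_rs, rs_rs]
    abel

include hcov in
theorem rel_surj (hres : Function.Surjective (rs (homMod E S.X₂) (inf_le_right : W U ≤ U i1)))
    (d : Γ(homMod E S.X₁, W U)) : ∃ q : E ⟶ S.X₃, Rel U q d := by
  obtain ⟨l1, hl1⟩ := hres ((post E S.f).app _ d)
  have hz : (post E S.g).app (W U) ((post E S.f).app (W U) d) = 0 :=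
    (secEquiv _).injective (sec_ext fun O hO m => by
      show S.g.app O (S.f.app O (ev (secEquiv _ d) hO m)) = 0
      rw [← ConcreteCategory.comp_apply, ← Scheme.Modules.Hom.comp_app, S.zero, Scheme.Modules.Hom.zero_app]
      rfl)
  obtain ⟨y, hy0, hy1⟩ := glue_top U hcov (homMod E S.X₃) 0 ((post E S.g).app _ l1) (by
    rw [← app_rs, hl1, hz]
    exact map_zero _)
  refine ⟨(globalEquiv E S.X₃).symm y, 0, l1, ?_, ?_, ?_⟩
  · rw [AddEquiv.apply_symm_apply, hy0, map_zero]
  · rw [AddEquiv.apply_symm_apply, hy1]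
  · rw [hl1, show rs (homMod E S.X₂) (inf_le_left : W U ≤ U i0) 0 = 0 from map_zero _, sub_zero]

include hS hcov in
theorem nonempty_ext_equiv [HasExt.{w} X.Modules] [Injective S.X₂]
    (hg : ∀ a, Function.Surjective ((post E S.g).app (U a)))
    (hres : Function.Surjective (rs (homMod E S.X₂) (inf_le_right : W U ≤ U i1))) :
    Nonempty (Abelian.Ext E S.X₁ 1 ≃+ (Γ(homMod E S.X₁, W U) ⧸ (δ U (homMod E S.X₁)).range)) := by
  choose d hd using rel_total U hS hg (E := E)
  have hwd : ∀ (q : E ⟶ S.X₃) (x : Γ(homMod E S.X₁, W U)), Rel U q x →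
      (QuotientAddGroup.mk (d q) : Γ(homMod E S.X₁, W U) ⧸ (δ U (homMod E S.X₁)).range) = QuotientAddGroup.mk x :=
    fun q x hx => QuotientAddGroup.eq_iff_sub_mem.2
      ((rel_iff U hcov hS (rel_sub U (hd q) hx)).2 ⟨0, by rw [zero_comp, sub_self]⟩)
  let Φ : (E ⟶ S.X₃) →+ Γ(homMod E S.X₁, W U) ⧸ (δ U (homMod E S.X₁)).range :=
    AddMonoidHom.mk' (fun q => QuotientAddGroup.mk (d q)) fun q q' => hwd _ _ (rel_add U (hd q) (hd q'))
  have hΦ : Function.Surjective Φ := fun z => by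
    obtain ⟨x, rfl⟩ := QuotientAddGroup.mk_surjective z
    obtain ⟨q, hq⟩ := rel_surj U hcov hres x
    exact ⟨q, hwd q x hq⟩
  have hΦker : ∀ q, Φ q = 0 ↔ ∃ φ : E ⟶ S.X₂, φ ≫ S.g = q := fun q =>
    (QuotientAddGroup.eq_zero_iff _).trans (rel_iff U hcov hS (hd q))
  let Θ : (E ⟶ S.X₃) →+ Abelian.Ext E S.X₁ 1 :=
    AddMonoidHom.mk' (fun q => (Abelian.Ext.mk₀ q).comp hS.extClass (zero_add 1)) fun q q' => by
      rw [Abelian.Ext.mk₀_add, Abelian.Ext.add_comp]
  have hΘ : Function.Surjective Θ := fun x => by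
    obtain ⟨y, hy⟩ := Abelian.Ext.covariant_sequence_exact₁ E hS x
      (Abelian.Ext.eq_zero_of_injective _) (zero_add 1)
    obtain ⟨q, rfl⟩ := (Abelian.Ext.mk₀_bijective _ _).2 y
    exact ⟨q, hy⟩
  have hker : Θ.ker = Φ.ker := by
    ext q
    rw [AddMonoidHom.mem_ker, AddMonoidHom.mem_ker, hΦker]
    constructor
    · intro h
      obtain ⟨y, hy⟩ := Abelian.Ext.covariant_sequence_exact₃ E hS (Abelian.Ext.mk₀ q) (zero_add 1) h
      obtain ⟨φ, rfl⟩ := (Abelian.Ext.mk₀_bijective _ _).2 y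
      rw [Abelian.Ext.mk₀_comp_mk₀] at hy
      exact ⟨φ, (Abelian.Ext.mk₀_bijective _ _).1 hy⟩
    · rintro ⟨φ, rfl⟩
      show (Abelian.Ext.mk₀ (φ ≫ S.g)).comp hS.extClass (zero_add 1) = 0
      rw [← Abelian.Ext.mk₀_comp_mk₀, Abelian.Ext.comp_assoc_of_second_deg_zero, ShortComplex.ShortExact.comp_extClass,
        Abelian.Ext.comp_zero]
  exact ⟨(QuotientAddGroup.quotientKerEquivOfSurjective Θ hΘ).symm.trans
    ((QuotientAddGroup.quotientAddEquivOfEq hker).trans (QuotientAddGroup.quotientKerEquivOfSurjective Φ hΦ))⟩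

end Main

theorem exists_basis_on {E : X.Modules} {O : X.Opens} (e : E.restrict O.ι ≅ FlatMod.freeMod (↑O) n) :
    ∃ b : Fin n → Γ(E, O), IsBasisOn E O b := by
  have h := Groth.L12.FinCov.exists_basisOn_of_iso E e
  rw [Groth.L12.FinCov.image_ι_top O] at h
  exact h

include hcov in
theorem exists_equiv {k : Type u} [Field k] [X.Over (Spec (CommRingCat.of k))] (hU : ∀ i, IsAffineOpen (U i))
    (E : X.Modules) (n : ℕ) (hfree : ∀ i, Nonempty (E.restrict (U i).ι ≅ FlatMod.freeMod ↑(U i) n)) :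
    ∃ e : DefoSh.FirstOrder k E ≃ ↑(CohB1.cechH U (RefHull.homSh E E) 1),
      e (DefoSh.Defo.trivDual k E).cl = 0 := by
  haveI : HasExt.{u + 1} X.Modules := HasExt.standard _
  haveI := Groth.L00.Tensor.grothendieckAbelian_modules X
  haveI : EnoughInjectives X.Modules := inferInstance
  choose b hb using fun i => exists_basis_on (hfree i).some
  let f : E ⟶ Injective.under E := Injective.ι E
  let S : ShortComplex X.Modules := ShortComplex.mk f (cokernel.π f) (cokernel.condition f)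
  have hS : S.ShortExact :=
    { exact := S.exact_of_g_is_cokernel (cokernelIsCokernel f) }
  haveI : Coh.IsQCoh S.X₁ := by
    show Coh.IsQCoh E
    obtain ⟨d, -⟩ := (Groth.L18.LFP.isFP_of_isFinLocFree E fun y => by
      obtain ⟨a, ha⟩ := Opens.mem_iSup.1 (show y ∈ ⨆ i, U i from hcov.ge trivial)
      exact ⟨U a, n, ha, hfree a⟩).exists_quasicoherentData
    exact d.isQuasicoherent
  haveI : Injective S.X₂ := inferInstanceAs (Injective (Injective.under E))
  have hIres : ∀ {V O : X.Opens} (h : V ≤ O) (t : Γ(S.X₂, V)), ∃ s : Γ(S.X₂, O), rs S.X₂ h s = t :=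
    fun {V O} h t => Groth.L17.PushMV.surjective_res_of_injective S.X₂ h t
  have hg : ∀ a, Function.Surjective ((post E S.g).app (U a)) := fun a =>
    post_surjective (hb a) S.g (surjective_on_affine hS (hU a))
  obtain ⟨eExt⟩ := nonempty_ext_equiv.{u + 1} U hcov hS (E := E) hg
    (res_surjective (hb i1) S.X₂ _ (fun t => hIres _ t))
  obtain ⟨eC⟩ := nonempty_cechH_one_equiv U (homMod E E)
  let eH : CohB1.cechH U (RefHull.homSh E E) 1 ≅ CohB1.cechH U (homMod E E) 1 :=
    (HomologicalComplex.homologyFunctor _ _ 1).mapIso ((cechComplexFunctor (A := AddCommGrpCat.{u}) U).mapIso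
      ((Scheme.Modules.toPresheaf X).mapIso (asIso (Groth.L15.Ref.toHomMod E E))))
  obtain ⟨e₀, he₀⟩ := Groth.L12.DefoSh.firstOrder_equiv_ext (k := k) E
  let e : DefoSh.FirstOrder k E ≃ ↑(CohB1.cechH U (RefHull.homSh E E) 1) :=
    e₀.trans ((eExt.trans (eC.symm.trans eH.addCommGroupIsoToAddEquiv.symm)).toEquiv)
  refine ⟨e, ?_⟩
  show (eExt.trans (eC.symm.trans eH.addCommGroupIsoToAddEquiv.symm)) (e₀ (DefoSh.Defo.trivDual k E).cl) = 0
  have h0 : (biprod.inr : E ⟶ E ⊞ E) ≫ (biprod.fst : E ⊞ E ⟶ E) = 0 := biprod.inr_fst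
  let σ : (ShortComplex.mk (biprod.inr : E ⟶ E ⊞ E) (biprod.fst : E ⊞ E ⟶ E) h0).Splitting :=
    { r := biprod.snd
      s := biprod.inl
      id := by rw [add_comm]; exact biprod.total }
  rw [he₀ (DefoSh.Defo.trivDual k E) biprod.inr (DefoSh.dualAct_eps (k := k) E).symm h0 σ.shortExact,
    Groth.L12.DefoSh.extClass_eq_zero_of_section σ.shortExact biprod.inl biprod.inl_fst, map_zero]

end Groth.L15.DefoTwo
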